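import Mathlib
import Groth.Prelude.Def_SymTen

/-!
Positive degree symmetric tensors of a graded algebra are radical over few generators.
-/

noncomputable section
namespace Groth.Agent.SymTenRadical

open PiTensorProduct
open scoped TensorProduct

universe u

variable {A B : Type u} [CommRing A] [CommRing B] [Algebra A B]
  (𝒜 : ℕ → Submodule A B) [GradedAlgebra 𝒜] (d : ℕ)

/-- The generators of the diagonal graded tensor algebra. -/
def genSet : Set (⨂[A] _ : Fin d, B) :=
  {t | ∃ (k : ℕ) (b : Fin d → B), (∀ i, b i ∈ 𝒜 k) ∧ t = PiTensorProduct.tprod A b}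

/-- The diagonal graded tensor algebra. -/
abbrev G : Subalgebra A (⨂[A] _ : Fin d, B) := Algebra.adjoin A (genSet 𝒜 d)

theorem mem_G {k : ℕ} {b : Fin d → B} (hb : ∀ i, b i ∈ 𝒜 k) : PiTensorProduct.tprod A b ∈ G 𝒜 d :=
  Algebra.subset_adjoin ⟨k, b, hb, rfl⟩

theorem perm_mem_G (σ : Equiv.Perm (Fin d)) {x : ⨂[A] _ : Fin d, B} (hx : x ∈ G 𝒜 d) :
    SymTen.perm A B d σ x ∈ G 𝒜 d := by
  induction hx using Algebra.adjoin_induction with
  | mem x h =>
    obtain ⟨k, b, hb, rfl⟩ := h
    rw [SymTen.perm_tprod]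
    exact mem_G 𝒜 d fun i => hb _
  | algebraMap r => rw [AlgHom.commutes]; exact Subalgebra.algebraMap_mem _ r
  | add x y _ _ hx hy => rw [map_add]; exact add_mem hx hy
  | mul x y _ _ hx hy => rw [map_mul]; exact mul_mem hx hy

theorem isIntegral_G : RingHom.IsIntegral
    (Subalgebra.inclusion (inf_le_left : G 𝒜 d ⊓ SymTen.TS A B d ≤ G 𝒜 d)).toRingHom := by
  classical
  intro x
  rcases subsingleton_or_nontrivial (⨂[A] _ : Fin d, B) with hsub | hnt
  · exact ⟨1, Polynomial.monic_one, Subtype.val_injective (Subsingleton.elim _ _)⟩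
  let p : Polynomial (⨂[A] _ : Fin d, B) :=
    ∏ σ : Equiv.Perm (Fin d), (Polynomial.X - Polynomial.C (SymTen.perm A B d σ x))
  have hG : ∀ m, p.coeff m ∈ G 𝒜 d := by
    have : p ∈ Polynomial.lifts (G 𝒜 d).val.toRingHom := by
      refine Subsemiring.prod_mem _ fun σ _ => ?_
      refine ⟨Polynomial.X - Polynomial.C ⟨_, perm_mem_G 𝒜 d σ x.2⟩, ?_⟩
      simp
    intro m
    obtain ⟨y, hy⟩ := (Polynomial.lifts_iff_coeff_lifts p).1 this m
    rw [← hy]
    exact y.2
  have hTS : ∀ m, p.coeff m ∈ SymTen.TS A B d := by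
    intro m τ
    rw [← SymTen.perm_apply]
    have hp : p.map (SymTen.perm A B d τ).toRingHom = p := by
      simp only [p, Polynomial.map_prod, Polynomial.map_sub, Polynomial.map_X, Polynomial.map_C]
      refine Fintype.prod_equiv (Equiv.mulLeft τ) _ _ fun σ => ?_
      congr 2
      show (SymTen.perm A B d τ) (SymTen.perm A B d σ x) = SymTen.perm A B d (τ * σ) x
      rw [← AlgHom.comp_apply]
      refine DFunLike.congr_fun (PiTensorProduct.algHom_ext ?_) _
      intro i
      ext b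
      simp [singleAlgHom_apply, SymTen.perm_tprod, Equiv.Perm.mul_def]
    conv_rhs => rw [← hp]
    rw [Polynomial.coeff_map]
    rfl
  have hl : p ∈ Polynomial.lifts (G 𝒜 d ⊓ SymTen.TS A B d).val.toRingHom :=
    (Polynomial.lifts_iff_coeff_lifts p).2 fun m => ⟨⟨_, hG m, hTS m⟩, rfl⟩
  have hpm : p.Monic := Polynomial.monic_prod_of_monic _ _ fun σ _ => Polynomial.monic_X_sub_C _
  obtain ⟨q, hq, -, hqm⟩ := Polynomial.lifts_and_degree_eq_and_monic hl hpm
  refine ⟨q, hqm, Subtype.val_injective ?_⟩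
  show (G 𝒜 d).val (q.eval₂ _ x) = 0
  rw [← AlgHom.coe_toRingHom, Polynomial.hom_eval₂]
  have h1 : ((G 𝒜 d).val : (G 𝒜 d) →+* (⨂[A] _ : Fin d, B)).comp
      (Subalgebra.inclusion (inf_le_left : G 𝒜 d ⊓ SymTen.TS A B d ≤ G 𝒜 d)).toRingHom =
      (G 𝒜 d ⊓ SymTen.TS A B d).val.toRingHom := rfl
  rw [h1, ← Polynomial.eval_map, hq, Polynomial.eval_prod]
  refine Finset.prod_eq_zero (Finset.mem_univ 1) ?_
  rw [Polynomial.eval_sub, Polynomial.eval_X, Polynomial.eval_C, sub_eq_zero]
  show (x : ⨂[A] _ : Fin d, B) = _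
  rw [SymTen.perm_apply, show (1 : Equiv.Perm (Fin d)) = Equiv.refl _ from rfl, PiTensorProduct.reindex_refl]
  rfl

/-- In degree `≥ 1`, the graded piece is `𝒜 1` times the previous one. -/
theorem piece_le_mul (hgen : Algebra.adjoin A (𝒜 1 : Set B) = ⊤) (k : ℕ) :
    𝒜 (k + 1) ≤ 𝒜 1 * 𝒜 k := by
  classical
  intro x hx
  have key : ∀ m ∈ Submonoid.closure (𝒜 1 : Set B),
      ∃ n, m ∈ 𝒜 n ∧ ∀ l, n = l + 1 → m ∈ 𝒜 1 * 𝒜 l := by
    intro m hm
    induction hm using Submonoid.closure_induction with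
    | mem m h =>
      refine ⟨1, h, fun l hl => ?_⟩
      obtain rfl : l = 0 := by omega
      rw [← mul_one m]
      exact Submodule.mul_mem_mul h (SetLike.one_mem_graded 𝒜)
    | one => exact ⟨0, SetLike.one_mem_graded 𝒜, fun l hl => by omega⟩
    | mul a b _ _ ha hb =>
      obtain ⟨na, ha1, ha2⟩ := ha
      obtain ⟨nb, hb1, hb2⟩ := hb
      refine ⟨na + nb, SetLike.mul_mem_graded ha1 hb1, fun l hl => ?_⟩
      rcases na with _ | na
      · have h := hb2 l (by omega)
        refine Submodule.mul_induction_on (C := fun w => a * w ∈ 𝒜 1 * 𝒜 l) h ?_ ?_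
        · intro u hu v hv
          rw [show a * (u * v) = u * (a * v) by ring]
          exact Submodule.mul_mem_mul hu (by simpa using SetLike.mul_mem_graded ha1 hv)
        · intro u v hu hv; rw [mul_add]; exact add_mem hu hv
      · have h := ha2 na rfl
        refine Submodule.mul_induction_on (C := fun w => w * b ∈ 𝒜 1 * 𝒜 l) h ?_ ?_
        · intro u hu v hv
          rw [mul_assoc]
          refine Submodule.mul_mem_mul hu ?_
          have := SetLike.mul_mem_graded hv hb1
          rwa [show na + nb = l by omega] at this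
        · intro u v hu hv; rw [add_mul]; exact add_mem hu hv
  have hspan : x ∈ Submodule.span A (Submonoid.closure (𝒜 1 : Set B) : Set B) := by
    rw [← Algebra.adjoin_eq_span, hgen]
    trivial
  have hproj : ∀ y ∈ Submodule.span A (Submonoid.closure (𝒜 1 : Set B) : Set B),
      GradedAlgebra.proj 𝒜 (k + 1) y ∈ 𝒜 1 * 𝒜 k := by
    intro y hy
    induction hy using Submodule.span_induction with
    | mem y hy =>
      obtain ⟨n, hn, hn2⟩ := key y hy
      rw [GradedAlgebra.proj_apply]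
      by_cases h : n = k + 1
      · subst h
        rw [DirectSum.decompose_of_mem_same 𝒜 hn]
        exact hn2 k rfl
      · rw [DirectSum.decompose_of_mem_ne 𝒜 hn h]
        exact zero_mem _
    | zero => rw [map_zero]; exact zero_mem _
    | add y z _ _ hy hz => rw [map_add]; exact add_mem hy hz
    | smul r y _ hy => rw [map_smul]; exact Submodule.smul_mem _ r hy
  have := hproj x hspan
  rwa [GradedAlgebra.proj_apply, DirectSum.decompose_of_mem_same 𝒜 hx] at this

variable {K : Type u} [CommRing K] [IsDomain K] [Algebra A K] (ψ : G 𝒜 d →ₐ[A] K)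

open Classical in
/-- The evaluation of a pure tensor at the point. -/
def chi (b : Fin d → B) : K := if h : PiTensorProduct.tprod A b ∈ G 𝒜 d then ψ ⟨_, h⟩ else 0

theorem chi_eq {b : Fin d → B} (h : PiTensorProduct.tprod A b ∈ G 𝒜 d) : chi 𝒜 d ψ b = ψ ⟨_, h⟩ := dif_pos h

theorem chi_mul {k l : ℕ} {b c : Fin d → B} (hb : ∀ i, b i ∈ 𝒜 k) (hc : ∀ i, c i ∈ 𝒜 l) :
    chi 𝒜 d ψ (b * c) = chi 𝒜 d ψ b * chi 𝒜 d ψ c := by
  rw [chi_eq 𝒜 d ψ (mem_G 𝒜 d hb), chi_eq 𝒜 d ψ (mem_G 𝒜 d hc),
    chi_eq 𝒜 d ψ (mem_G 𝒜 d (k := k + l) (b := b * c) fun i => SetLike.mul_mem_graded (hb i) (hc i)), ← map_mul]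
  exact congrArg ψ (Subtype.ext (tprod_mul_tprod b c).symm)

theorem chi_update_add {k : ℕ} {b : Fin d → B} (hb : ∀ i, b i ∈ 𝒜 k) (i : Fin d) {x y : B}
    (hx : x ∈ 𝒜 k) (hy : y ∈ 𝒜 k) :
    chi 𝒜 d ψ (Function.update b i (x + y)) =
      chi 𝒜 d ψ (Function.update b i x) + chi 𝒜 d ψ (Function.update b i y) := by
  classical
  have h : ∀ z ∈ 𝒜 k, ∀ j, Function.update b i z j ∈ 𝒜 k := fun z hz j => by
    rcases eq_or_ne j i with rfl | hj
    · simpa using hz
    · simpa [hj] using hb j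
  rw [chi_eq 𝒜 d ψ (mem_G 𝒜 d (h _ (add_mem hx hy))), chi_eq 𝒜 d ψ (mem_G 𝒜 d (h _ hx)),
    chi_eq 𝒜 d ψ (mem_G 𝒜 d (h _ hy)), ← map_add]
  exact congrArg ψ (Subtype.ext ((PiTensorProduct.tprod A).map_update_add b i x y))

theorem chi_update_smul {k : ℕ} {b : Fin d → B} (hb : ∀ i, b i ∈ 𝒜 k) (i : Fin d) (a : A) {x : B}
    (hx : x ∈ 𝒜 k) :
    chi 𝒜 d ψ (Function.update b i (a • x)) = algebraMap A K a * chi 𝒜 d ψ (Function.update b i x) := by
  classical
  have h : ∀ z ∈ 𝒜 k, ∀ j, Function.update b i z j ∈ 𝒜 k := fun z hz j => by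
    rcases eq_or_ne j i with rfl | hj
    · simpa using hz
    · simpa [hj] using hb j
  rw [chi_eq 𝒜 d ψ (mem_G 𝒜 d (h _ (Submodule.smul_mem _ a hx))), chi_eq 𝒜 d ψ (mem_G 𝒜 d (h _ hx)),
    ← Algebra.smul_def, ← map_smul]
  exact congrArg ψ (Subtype.ext ((PiTensorProduct.tprod A).map_update_smul b i a x))

/-- If all degree one pure tensors vanish, all positive degree ones do. -/
theorem chi_eq_zero_of_one (hgen : Algebra.adjoin A (𝒜 1 : Set B) = ⊤)
    (h1 : ∀ b : Fin d → B, (∀ i, b i ∈ 𝒜 1) → chi 𝒜 d ψ b = 0) {k : ℕ} (b : Fin d → B)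
    (hb : ∀ i, b i ∈ 𝒜 (k + 1)) : chi 𝒜 d ψ b = 0 := by
  classical
  suffices H : ∀ (s : Finset (Fin d)) (b : Fin d → B), (∀ i, b i ∈ 𝒜 (k + 1)) →
      (∀ i, i ∉ s → ∃ u ∈ 𝒜 1, ∃ v ∈ 𝒜 k, b i = u * v) → chi 𝒜 d ψ b = 0 from
    H Finset.univ b hb fun i hi => absurd (Finset.mem_univ i) hi
  intro s
  induction s using Finset.induction with
  | empty =>
    intro b _ h
    choose u hu v hv huv using fun i => h i (Finset.notMem_empty i)
    rw [show b = u * v from funext huv, chi_mul 𝒜 d ψ hu hv, h1 u hu, zero_mul]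
  | insert a s ha ih =>
    intro b hb h
    have hall : ∀ z ∈ 𝒜 1 * 𝒜 k, z ∈ 𝒜 (k + 1) ∧ chi 𝒜 d ψ (Function.update b a z) = 0 := by
      intro z hz
      induction hz using Submodule.mul_induction_on' with
      | mem_mul_mem u hu v hv =>
        have huv : u * v ∈ 𝒜 (k + 1) := by
          rw [add_comm]; exact SetLike.mul_mem_graded hu hv
        refine ⟨huv, ih _ (fun i => ?_) fun i hi => ?_⟩
        · rcases eq_or_ne i a with rfl | hj
          · simpa using huv
          · simpa [hj] using hb i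
        · rcases eq_or_ne i a with rfl | hj
          · exact ⟨u, hu, v, hv, by simp⟩
          · simpa [hj] using h i (by simp [hj, hi])
      | add x _ y _ hx hy =>
        exact ⟨add_mem hx.1 hy.1, by rw [chi_update_add 𝒜 d ψ hb a hx.1 hy.1, hx.2, hy.2, add_zero]⟩
    simpa using (hall _ (piece_le_mul 𝒜 hgen k (hb a))).2

variable {b : Fin d → B} (hb : ∀ i, b i ∈ 𝒜 1)

/-- The linear forms at the point. -/
def form (b : Fin d → B) (i j : Fin d) : K := chi 𝒜 d ψ (Function.update b i (b j))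

include hb in
theorem prod_form (c : Fin d → Fin d) :
    ∏ i, form 𝒜 d ψ b i (c i) = chi 𝒜 d ψ (fun i => b (c i)) * chi 𝒜 d ψ b ^ (d - 1) := by
  classical
  have hu : ∀ i j, ∀ l, Function.update b i (b j) l ∈ 𝒜 1 := fun i j l => by
    rcases eq_or_ne l i with rfl | hl
    · simpa using hb j
    · simpa [hl] using hb l
  simp only [form]
  rw [chi_eq 𝒜 d ψ (mem_G 𝒜 d (b := fun i => b (c i)) fun i => hb (c i)), chi_eq 𝒜 d ψ (mem_G 𝒜 d hb), ← map_pow, ← map_mul]
  rw [Finset.prod_congr rfl (g := fun i => ψ ⟨PiTensorProduct.tprod A (Function.update b i (b (c i))), mem_G 𝒜 d (hu i (c i))⟩)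
    (fun i _ => chi_eq 𝒜 d ψ _), ← map_prod]
  refine congrArg ψ (Subtype.ext ?_)
  rw [Subalgebra.coe_mul, Subalgebra.coe_pow]
  simp only [SubmonoidClass.coe_finset_prod]
  rw [← PiTensorProduct.tprod_prod]
  simp only [← tprodMonoidHom_apply, ← map_pow, ← map_mul]
  refine congrArg _ (funext fun l => ?_)
  rw [Finset.prod_apply, Pi.mul_apply, Pi.pow_apply, ← Finset.mul_prod_erase _ _ (Finset.mem_univ l), Function.update_self,
    Finset.prod_congr rfl (g := fun _ => b l) (fun i hi => Function.update_of_ne (Finset.ne_of_mem_erase hi).symm _ _),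
    Finset.prod_const, Finset.card_erase_of_mem (Finset.mem_univ l), Finset.card_univ, Fintype.card_fin]

include hb in
/-- Degree one: vanishing of all invariant degree one elements kills everything. -/
theorem chi_eq_zero_degOne
    (hD : ∀ (x : G 𝒜 d), (x : ⨂[A] _ : Fin d, B) ∈ SymTen.TS A B d →
      (x : ⨂[A] _ : Fin d, B) ∈ Submodule.span A {s | ∃ c : Fin d → B, (∀ i, c i ∈ 𝒜 1) ∧ s = PiTensorProduct.tprod A c} → ψ x = 0) :
    chi 𝒜 d ψ b = 0 := by
  classical
  by_contra hc
  let L : Fin d → MvPolynomial (Fin d) K := fun i => ∑ j, MvPolynomial.C (form 𝒜 d ψ b i j) * MvPolynomial.X j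
  let cnt : (Fin d → Fin d) → (Fin d →₀ ℕ) := fun c => ∑ i, Finsupp.single (c i) 1
  have hF : ∏ i, L i = 0 := by
    have hexp : ∏ i, L i = ∑ c : Fin d → Fin d, MvPolynomial.monomial (cnt c) (∏ i, form 𝒜 d ψ b i (c i)) := by
      simp only [L, Fintype.prod_sum]
      refine Finset.sum_congr rfl fun c _ => ?_
      simp only [cnt]
      rw [MvPolynomial.monomial_sum_index, map_prod, ← Finset.prod_mul_distrib]
      exact Finset.prod_congr rfl fun i _ => rfl
    rw [hexp]
    ext m
    simp only [MvPolynomial.coeff_sum, MvPolynomial.coeff_monomial, MvPolynomial.coeff_zero, prod_form 𝒜 d ψ hb]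
    rw [← Finset.sum_filter, ← Finset.sum_mul]
    have hmem : ∀ c : Fin d → Fin d, PiTensorProduct.tprod A (fun i => b (c i)) ∈ G 𝒜 d := fun c => mem_G 𝒜 d fun i => hb _
    have h0 : ψ (∑ c ∈ Finset.univ.filter (fun c => cnt c = m), (⟨_, hmem c⟩ : G 𝒜 d)) = 0 := by
      refine hD _ ?_ ?_
      · intro σ
        simp only [AddSubmonoidClass.coe_finset_sum, map_sum, reindex_tprod]
        refine Finset.sum_nbij' (fun c => c ∘ σ.symm) (fun c => c ∘ σ) ?_ ?_ ?_ ?_ ?_
        · intro c hc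
          simp only [Finset.mem_filter, Finset.mem_univ, true_and, cnt] at hc ⊢
          rw [← hc]
          exact Fintype.sum_equiv σ.symm _ _ fun i => rfl
        · intro c hc
          simp only [Finset.mem_filter, Finset.mem_univ, true_and, cnt] at hc ⊢
          rw [← hc]
          exact Fintype.sum_equiv σ _ _ fun i => rfl
        · intro c _; funext i; simp
        · intro c _; funext i; simp
        · intro c _; rfl
      · rw [AddSubmonoidClass.coe_finset_sum]
        exact Submodule.sum_mem _ fun c _ => Submodule.subset_span ⟨_, fun i => hb _, rfl⟩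
    rw [map_sum] at h0
    rw [Finset.sum_congr rfl (g := fun c => ψ ⟨_, hmem c⟩) (fun c _ => chi_eq 𝒜 d ψ (hmem c)), h0, zero_mul]
  obtain ⟨i, -, hi⟩ := Finset.prod_eq_zero_iff.1 hF
  have := congrArg (MvPolynomial.coeff (Finsupp.single i 1)) hi
  simp only [L, MvPolynomial.coeff_sum, MvPolynomial.coeff_C_mul, MvPolynomial.coeff_X', MvPolynomial.coeff_zero] at this
  rw [Finset.sum_eq_single i (fun j _ hj => by simp [Finsupp.single_left_inj one_ne_zero, hj]) (by simp)] at this
  simp only [if_true, mul_one, form, Function.update_eq_self] at this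
  exact hc this

/-- Avoiding finitely many linear forms. -/
theorem exists_forall_form_ne (e : Fin d ↪ A) (he : ∀ i j, algebraMap A K (e i) = algebraMap A K (e j) → i = j)
    (L : Fin d → Fin d → K) (hL : ∀ i, L i i ≠ 0) :
    ∃ a : Fin d → A, ∀ i, ∑ j, algebraMap A K (a j) * L i j ≠ 0 := by
  classical
  suffices H : ∀ s : Finset (Fin d), ∃ a : Fin d → A, ∀ i ∈ s, ∑ j, algebraMap A K (a j) * L i j ≠ 0 by
    obtain ⟨a, ha⟩ := H Finset.univ
    exact ⟨a, fun i => ha i (Finset.mem_univ i)⟩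
  intro s
  induction s using Finset.induction with
  | empty => exact ⟨0, by simp⟩
  | insert i₀ s hi₀ ih =>
    obtain ⟨v, hv⟩ := ih
    set lv : Fin d → K := fun i => ∑ j, algebraMap A K (v j) * L i j with hlv
    by_contra hcon
    push Not at hcon
    let cand : Option (Fin d) → (Fin d → A) := fun o => o.elim (Pi.single i₀ 1) fun l => v + e l • Pi.single i₀ 1
    have hval : ∀ o i, ∑ j, algebraMap A K (cand o j) * L i j =
        o.elim (L i i₀) (fun l => lv i + algebraMap A K (e l) * L i i₀) := by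
      intro o i
      have hsingle : ∑ j, algebraMap A K ((Pi.single i₀ 1 : Fin d → A) j) * L i j = L i i₀ := by
        rw [Finset.sum_eq_single i₀ (fun j _ hj => by simp [hj]) (by simp)]
        simp
      cases o with
      | none => exact hsingle
      | some l =>
        simp only [cand, Option.elim_some, Pi.add_apply, Pi.smul_apply, smul_eq_mul, map_add, map_mul, add_mul,
          Finset.sum_add_distrib, mul_assoc, ← Finset.mul_sum, hsingle, hlv]
    choose f hf hf0 using fun o => hcon (cand o)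
    have hinj : Function.Injective f := by
      intro o o' h
      have h1 := hf0 o
      have h2 := hf0 o'
      rw [hval] at h1 h2
      rw [← h] at h2
      have hne : f o = i₀ → False ∨ L (f o) i₀ ≠ 0 := fun e0 => Or.inr (e0 ▸ hL i₀)
      have hlv0 : f o ≠ i₀ → lv (f o) ≠ 0 := fun e0 => hv _ ((Finset.mem_insert.1 (hf o)).resolve_left e0)
      have mixed : ∀ l, L (f o) i₀ = 0 → lv (f o) + algebraMap A K (e l) * L (f o) i₀ = 0 → False := by
        intro l a b
        rw [a, mul_zero, add_zero] at b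
        exact hlv0 (fun e0 => hL i₀ (e0 ▸ a)) b
      cases o with
      | none =>
        cases o' with
        | none => rfl
        | some l => exact (mixed l h1 h2).elim
      | some l =>
        cases o' with
        | none => exact (mixed l h2 h1).elim
        | some l' =>
          congr 1
          apply he
          have hz : L (f (some l)) i₀ ≠ 0 := fun a => mixed l a h1
          simp only [Option.elim_some] at h1 h2
          exact mul_right_cancel₀ hz (add_left_cancel (h1.trans h2.symm))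
    simpa using Fintype.card_le_of_injective f hinj

include hb in
/-- Enough scalars: the degree one diagonal tensors suffice. -/
theorem chi_eq_zero_tpow_degOne (e : Fin d ↪ A)
    (he : ∀ i j, algebraMap A K (e i) = algebraMap A K (e j) → i = j)
    (hD : ∀ f ∈ 𝒜 1, chi 𝒜 d ψ (fun _ => f) = 0) : chi 𝒜 d ψ b = 0 := by
  classical
  by_contra hc
  obtain ⟨a, ha⟩ := exists_forall_form_ne d e he (form 𝒜 d ψ b)
    (fun i => by simpa [form, Function.update_eq_self] using hc)
  set f := ∑ j, a j • b j with hf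
  have hfmem : f ∈ 𝒜 1 := Submodule.sum_mem _ fun j _ => Submodule.smul_mem _ _ (hb j)
  have key : ∀ i, chi 𝒜 d ψ (Function.update b i f) = ∑ j, algebraMap A K (a j) * form 𝒜 d ψ b i j := by
    intro i
    have h0 : chi 𝒜 d ψ (Function.update b i 0) = 0 := by
      have := chi_update_smul 𝒜 d ψ hb i 0 (hb i)
      simpa using this
    have : ∀ s : Finset (Fin d), chi 𝒜 d ψ (Function.update b i (∑ j ∈ s, a j • b j)) =
        ∑ j ∈ s, algebraMap A K (a j) * form 𝒜 d ψ b i j := by
      intro s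
      induction s using Finset.induction with
      | empty => simpa using h0
      | insert j s hj ih =>
        rw [Finset.sum_insert hj, Finset.sum_insert hj, chi_update_add 𝒜 d ψ hb i (Submodule.smul_mem _ _ (hb j))
          (Submodule.sum_mem _ fun l _ => Submodule.smul_mem _ _ (hb l)), chi_update_smul 𝒜 d ψ hb i _ (hb j), ih]
        rfl
    exact this Finset.univ
  have hu : ∀ i l, Function.update b i f l ∈ 𝒜 1 := fun i l => by
    rcases eq_or_ne l i with rfl | hl
    · simpa using hfmem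
    · simpa [hl] using hb l
  have hp : ∏ i, chi 𝒜 d ψ (Function.update b i f) = chi 𝒜 d ψ (fun _ => f) * chi 𝒜 d ψ b ^ (d - 1) := by
    rw [chi_eq 𝒜 d ψ (mem_G 𝒜 d (b := fun _ => f) fun _ => hfmem), chi_eq 𝒜 d ψ (mem_G 𝒜 d hb), ← map_pow, ← map_mul,
      Finset.prod_congr rfl (g := fun i => ψ ⟨_, mem_G 𝒜 d (hu i)⟩) (fun i _ => chi_eq 𝒜 d ψ _), ← map_prod]
    refine congrArg ψ (Subtype.ext ?_)
    rw [Subalgebra.coe_mul, Subalgebra.coe_pow]
    simp only [SubmonoidClass.coe_finset_prod]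
    rw [← PiTensorProduct.tprod_prod]
    simp only [← tprodMonoidHom_apply, ← map_pow, ← map_mul]
    refine congrArg _ (funext fun l => ?_)
    rw [Finset.prod_apply, Pi.mul_apply, Pi.pow_apply, ← Finset.mul_prod_erase _ _ (Finset.mem_univ l), Function.update_self,
      Finset.prod_congr rfl (g := fun _ => b l) (fun i hi => Function.update_of_ne (Finset.ne_of_mem_erase hi).symm _ _),
      Finset.prod_const, Finset.card_erase_of_mem (Finset.mem_univ l), Finset.card_univ, Fintype.card_fin]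
  rw [hD f hfmem, zero_mul, Finset.prod_eq_zero_iff] at hp
  obtain ⟨i, -, hi⟩ := hp
  exact ha i (key i ▸ hi)

omit [IsDomain K] in
theorem homog_avoid [IsDomain K] (P : Fin d → Fin d → K) (hP : ∀ i, P i i ≠ 0) : ∀ s : Finset (Fin d),
    ∃ (n : ℕ) (g : MvPolynomial (Fin d) A), 0 < n ∧ g.IsHomogeneous n ∧ ∀ i ∈ s, MvPolynomial.aeval (P i) g ≠ 0 := by
  classical
  intro s
  induction s using Finset.strongInduction with
  | _ s ih =>
    by_cases hne : s.Nonempty
    swap
    · exact ⟨1, 0, one_pos, MvPolynomial.isHomogeneous_zero _ _ _, by simp [Finset.not_nonempty_iff_eq_empty.1 hne]⟩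
    choose n g hn hg hv using fun j : s => ih (s.erase j) (Finset.erase_ssubset j.2)
    by_cases hgood : ∃ j : s, MvPolynomial.aeval (P j) (g j) ≠ 0
    · obtain ⟨j, hj⟩ := hgood
      refine ⟨n j, g j, hn j, hg j, fun i hi => ?_⟩
      by_cases hij : i = j
      · exact hij ▸ hj
      · exact hv j i (Finset.mem_erase.2 ⟨hij, hi⟩)
    push Not at hgood
    obtain ⟨j₀, hj₀⟩ := hne
    by_cases hone : ∀ i ∈ s, i = j₀
    · exact ⟨1, MvPolynomial.X j₀, one_pos, MvPolynomial.isHomogeneous_X _ _, fun i hi => by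
        rw [hone i hi, MvPolynomial.aeval_X]; exact hP j₀⟩
    push Not at hone
    obtain ⟨i₁, hi₁, hi₁'⟩ := hone
    let j0 : s := ⟨j₀, hj₀⟩
    let others : Finset s := Finset.univ.erase j0
    have hpos : 0 < ∑ j ∈ others, n j :=
      Finset.sum_pos (fun j _ => hn j) ⟨⟨i₁, hi₁⟩, Finset.mem_erase.2 ⟨fun h => hi₁' (congrArg Subtype.val h), Finset.mem_univ _⟩⟩
    refine ⟨n j0 * ∑ j ∈ others, n j, g j0 ^ (∑ j ∈ others, n j) + (∏ j ∈ others, g j) ^ n j0,
      Nat.mul_pos (hn j0) hpos, ?_, fun i hi => ?_⟩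
    · refine ((hg j0).pow _).add ?_
      rw [mul_comm]
      exact ((MvPolynomial.IsHomogeneous.prod others _ _ fun j _ => hg j)).pow _
    · rw [map_add, map_pow, map_pow, map_prod]
      by_cases hij : i = j₀
      · subst hij
        rw [hgood j0, zero_pow hpos.ne', zero_add]
        refine pow_ne_zero _ (Finset.prod_ne_zero_iff.2 fun j hj => hv j _ (Finset.mem_erase.2 ⟨?_, hi⟩))
        exact fun e => (Finset.mem_erase.1 hj).1 (Subtype.ext e.symm)
      · rw [Finset.prod_eq_zero (i := ⟨i, hi⟩) (Finset.mem_erase.2 ⟨fun e => hij (congrArg Subtype.val e), Finset.mem_univ _⟩)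
          (hgood ⟨i, hi⟩), zero_pow (hn j0).ne', add_zero]
        exact pow_ne_zero _ (hv j0 i (Finset.mem_erase.2 ⟨hij, hi⟩))

include hb in
/-- The diagonal tensors of all positive degrees suffice. -/
theorem chi_eq_zero_tpow
    (hD : ∀ n, 0 < n → ∀ f ∈ 𝒜 n, chi 𝒜 d ψ (fun _ => f) = 0) : chi 𝒜 d ψ b = 0 := by
  classical
  by_contra hc
  obtain ⟨n, g, hn, hg, hgv⟩ := homog_avoid (A := A) d (form 𝒜 d ψ b)
    (fun i => by simpa [form, Function.update_eq_self] using hc) Finset.univ
  set f := MvPolynomial.aeval b g with hf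
  have hbn : ∀ n i, (b ^ n) i ∈ 𝒜 n := fun n i => by
    simpa using SetLike.pow_mem_graded n (hb i)
  have hu : ∀ {n : ℕ} (i : Fin d) {x : B}, x ∈ 𝒜 n → ∀ l, Function.update (b ^ n) i x l ∈ 𝒜 n := fun {n} i {x} hx l => by
    rcases eq_or_ne l i with rfl | hl
    · simpa using hx
    · simpa [hl] using hbn n l
  have hmono : ∀ (i : Fin d) (m : Fin d →₀ ℕ), (m.prod fun j e => b j ^ e) ∈ 𝒜 (m.sum fun _ e => e) ∧
      chi 𝒜 d ψ (Function.update (b ^ (m.sum fun _ e => e)) i (m.prod fun j e => b j ^ e)) =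
        m.prod fun j e => form 𝒜 d ψ b i j ^ e := by
    intro i m
    have hone : ∀ (j : Fin d) (e : ℕ), chi 𝒜 d ψ (Function.update (b ^ e) i (b j ^ e)) = form 𝒜 d ψ b i j ^ e := by
      intro j e
      induction e with
      | zero =>
        rw [pow_zero, pow_zero, pow_zero, chi_eq 𝒜 d ψ (mem_G 𝒜 d (k := 0) fun l => ?_), ← map_one ψ]
        · refine congrArg ψ (Subtype.ext ?_)
          exact (congrArg (fun c => PiTensorProduct.tprod A c) (Function.update_eq_self i (1 : Fin d → B))).trans rfl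
        · rw [show Function.update (1 : Fin d → B) i 1 = 1 from Function.update_eq_self i _]
          exact SetLike.one_mem_graded 𝒜
      | succ e ih =>
        rw [pow_succ, pow_succ, pow_succ, Function.update_mul, chi_mul 𝒜 d ψ (k := e) (l := 1) (b := Function.update (b ^ e) i (b j ^ e))
          (hu i (by simpa using SetLike.pow_mem_graded e (hb j))) (fun l => ?_), ih]
        · rfl
        · rcases eq_or_ne l i with rfl | hl
          · simpa using hb j
          · simpa [hl] using hb l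
    induction m using Finsupp.induction with
    | zero =>
      refine ⟨by simpa using SetLike.one_mem_graded 𝒜, ?_⟩
      have := hone i 0
      simpa using this
    | single_add j e m hj he ih =>
      have hd : Disjoint (Finsupp.single j e).support m.support := by
        rw [Finsupp.support_single_ne_zero _ he]; simpa using hj
      rw [Finsupp.prod_add_index_of_disjoint hd, Finsupp.prod_add_index_of_disjoint hd,
        Finsupp.sum_add_index_of_disjoint hd, Finsupp.prod_single_index (by simp),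
        Finsupp.prod_single_index (by simp), Finsupp.sum_single_index rfl]
      refine ⟨SetLike.mul_mem_graded (by simpa using SetLike.pow_mem_graded e (hb j)) ih.1, ?_⟩
      rw [pow_add, Function.update_mul, chi_mul 𝒜 d ψ (hu i (by simpa using SetLike.pow_mem_graded e (hb j)))
        (hu i ih.1), hone, ih.2]
  have hdeg : ∀ m ∈ g.support, (m.sum fun _ e => e) = n := fun m hm => by
    have := hg (MvPolynomial.mem_support_iff.1 hm)
    simpa [Finsupp.weight_apply] using this
  have hsum : ∀ (i : Fin d) (s : Finset (Fin d →₀ ℕ)), s ⊆ g.support →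
      (∑ m ∈ s, g.coeff m • m.prod fun j e => b j ^ e) ∈ 𝒜 n ∧
      chi 𝒜 d ψ (Function.update (b ^ n) i (∑ m ∈ s, g.coeff m • m.prod fun j e => b j ^ e)) =
        ∑ m ∈ s, algebraMap A K (g.coeff m) * m.prod fun j e => form 𝒜 d ψ b i j ^ e := by
    intro i s
    induction s using Finset.induction with
    | empty =>
      intro _
      refine ⟨by simp, ?_⟩
      have := chi_update_smul 𝒜 d ψ (hbn n) i 0 (hbn n i)
      simpa using this
    | insert m s hm ih =>
      intro hs
      obtain ⟨ih1, ih2⟩ := ih fun x hx => hs (Finset.mem_insert_of_mem hx)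
      have hmn := hdeg m (hs (Finset.mem_insert_self m s))
      have h1 : (m.prod fun j e => b j ^ e) ∈ 𝒜 n := hmn ▸ (hmono i m).1
      rw [Finset.sum_insert hm, Finset.sum_insert hm]
      refine ⟨add_mem (Submodule.smul_mem _ _ h1) ih1, ?_⟩
      rw [chi_update_add 𝒜 d ψ (hbn n) i (Submodule.smul_mem _ _ h1) ih1,
        chi_update_smul 𝒜 d ψ (hbn n) i _ h1, ih2]
      congr 2
      rw [← hmn]
      exact (hmono i m).2
  have hfeq : f = ∑ m ∈ g.support, g.coeff m • m.prod fun j e => b j ^ e := by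
    rw [hf, MvPolynomial.aeval_def, MvPolynomial.eval₂_eq]
    exact Finset.sum_congr rfl fun m _ => (Algebra.smul_def _ _).symm
  have hfmem : f ∈ 𝒜 n := by
    rw [hfeq]
    exact Submodule.sum_mem _ fun m hm => Submodule.smul_mem _ _ (by
      rw [← hdeg m hm]
      rcases isEmpty_or_nonempty (Fin d) with h | h
      · obtain rfl : m = 0 := Subsingleton.elim _ _
        simpa using SetLike.one_mem_graded 𝒜
      · exact (hmono (Classical.arbitrary _) m).1)
  have key : ∀ i, chi 𝒜 d ψ (Function.update (b ^ n) i f) ≠ 0 := by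
    intro i
    rw [hfeq, (hsum i g.support subset_rfl).2]
    have := hgv i (Finset.mem_univ i)
    rwa [MvPolynomial.aeval_def, MvPolynomial.eval₂_eq] at this
  have hp : ∏ i, chi 𝒜 d ψ (Function.update (b ^ n) i f) = chi 𝒜 d ψ (fun _ => f) * chi 𝒜 d ψ (b ^ n) ^ (d - 1) := by
    rw [chi_eq 𝒜 d ψ (mem_G 𝒜 d (b := fun _ => f) fun _ => hfmem), chi_eq 𝒜 d ψ (mem_G 𝒜 d (hbn n)), ← map_pow, ← map_mul,
      Finset.prod_congr rfl (g := fun i => ψ ⟨_, mem_G 𝒜 d (hu i hfmem)⟩) (fun i _ => chi_eq 𝒜 d ψ _), ← map_prod]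
    refine congrArg ψ (Subtype.ext ?_)
    rw [Subalgebra.coe_mul, Subalgebra.coe_pow]
    simp only [SubmonoidClass.coe_finset_prod]
    rw [← PiTensorProduct.tprod_prod]
    simp only [← tprodMonoidHom_apply, ← map_pow, ← map_mul]
    refine congrArg _ (funext fun l => ?_)
    rw [Finset.prod_apply, Pi.mul_apply, Pi.pow_apply (b ^ n) (d - 1), ← Finset.mul_prod_erase _ _ (Finset.mem_univ l),
      Function.update_self,
      Finset.prod_congr rfl (g := fun _ => (b ^ n) l) (fun i hi => Function.update_of_ne (Finset.ne_of_mem_erase hi).symm _ _),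
      Finset.prod_const, Finset.card_erase_of_mem (Finset.mem_univ l), Finset.card_univ, Fintype.card_fin]
  rw [hD n hn f hfmem, zero_mul, Finset.prod_eq_zero_iff] at hp
  obtain ⟨i, -, hi⟩ := hp
  exact key i hi

/-- The radical criterion. -/
theorem exists_pow_mem (hgen : Algebra.adjoin A (𝒜 1 : Set B) = ⊤)
    (D : Subalgebra A (⨂[A] _ : Fin d, B)) (hDdef : D = G 𝒜 d ⊓ SymTen.TS A B d)
    {k : ℕ} (hk : 0 < k) {t : ⨂[A] _ : Fin d, B} (htD : t ∈ D)
    (htk : t ∈ Submodule.span A {s | ∃ b : Fin d → B, (∀ i, b i ∈ 𝒜 k) ∧ s = PiTensorProduct.tprod A b})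
    (X : Set D)
    (H : ∀ (K : Type u) [CommRing K] [IsDomain K] [Algebra A K] (ψ : G 𝒜 d →ₐ[A] K),
      (∀ (y : G 𝒜 d) (x : D), x ∈ X → (x : ⨂[A] _ : Fin d, B) = y → ψ y = 0) →
        ∀ b : Fin d → B, (∀ i, b i ∈ 𝒜 1) → chi 𝒜 d ψ b = 0) :
    ∃ m : ℕ, 0 < m ∧ (⟨t, htD⟩ : D) ^ m ∈ Ideal.span X := by
  classical
  subst hDdef
  have hrad : (⟨t, htD⟩ : ↥(G 𝒜 d ⊓ SymTen.TS A B d)) ∈ (Ideal.span X).radical := by
    rw [Ideal.radical_eq_sInf, Submodule.mem_sInf]
    rintro P ⟨hXP, hP⟩
    let ι := Subalgebra.inclusion (inf_le_left : G 𝒜 d ⊓ SymTen.TS A B d ≤ G 𝒜 d)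
    letI : Algebra ↥(G 𝒜 d ⊓ SymTen.TS A B d) (G 𝒜 d) := ι.toRingHom.toAlgebra
    haveI : Algebra.IsIntegral ↥(G 𝒜 d ⊓ SymTen.TS A B d) (G 𝒜 d) := ⟨isIntegral_G 𝒜 d⟩
    haveI := hP
    have hker : RingHom.ker (algebraMap ↥(G 𝒜 d ⊓ SymTen.TS A B d) (G 𝒜 d)) ≤ P := fun x hx => by
      have : x = 0 := Subalgebra.inclusion_injective _ ((RingHom.mem_ker.1 hx).trans (map_zero ι).symm)
      rw [this]; exact P.zero_mem
    obtain ⟨Q, hQ, hQP⟩ := Ideal.exists_ideal_over_prime_of_isIntegral P (⊥ : Ideal (G 𝒜 d)) (fun x hx => hker (RingHom.mem_ker.2 (Ideal.mem_bot.1 (Ideal.mem_comap.1 hx))))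
    obtain ⟨hQp, hQP⟩ := hQP
    haveI := hQp
    let ψ : G 𝒜 d →ₐ[A] (G 𝒜 d ⧸ Q) := Ideal.Quotient.mkₐ A Q
    have h1 := H (G 𝒜 d ⧸ Q) ψ fun y x hx e => by
      have hy : y = ι x := Subtype.ext e.symm
      rw [hy]
      refine Ideal.Quotient.eq_zero_iff_mem.2 ?_
      have : x ∈ Q.comap (algebraMap ↥(G 𝒜 d ⊓ SymTen.TS A B d) (G 𝒜 d)) := hQP.symm ▸ hXP (Ideal.subset_span hx)
      exact this
    obtain ⟨k', rfl⟩ : ∃ k', k = k' + 1 := ⟨k - 1, by omega⟩
    have hall : ∀ s ∈ Submodule.span A {s | ∃ b : Fin d → B, (∀ i, b i ∈ 𝒜 (k' + 1)) ∧ s = PiTensorProduct.tprod A b},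
        ∀ hs : s ∈ G 𝒜 d, ψ ⟨s, hs⟩ = 0 := by
      intro s hs
      induction hs using Submodule.span_induction with
      | mem s h =>
        obtain ⟨b, hb, rfl⟩ := h
        intro hs
        rw [← chi_eq 𝒜 d ψ hs]
        exact chi_eq_zero_of_one 𝒜 d ψ hgen h1 b hb
      | zero => intro hs; exact map_zero ψ
      | add x y hx hy ihx ihy =>
        intro hs
        have hxG : ∀ z ∈ Submodule.span A {s | ∃ b : Fin d → B, (∀ i, b i ∈ 𝒜 (k' + 1)) ∧ s = PiTensorProduct.tprod A b}, z ∈ G 𝒜 d :=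
          fun z hz => (Submodule.span_le (p := Subalgebra.toSubmodule (G 𝒜 d))).2
            (fun w hw => by obtain ⟨c, hc, rfl⟩ := hw; exact mem_G 𝒜 d hc) hz
        rw [show (⟨x + y, hs⟩ : G 𝒜 d) = ⟨x, hxG x hx⟩ + ⟨y, hxG y hy⟩ from rfl, map_add, ihx, ihy, add_zero]
      | smul r x hx ih =>
        intro hs
        have hxG : x ∈ G 𝒜 d := (Submodule.span_le (p := Subalgebra.toSubmodule (G 𝒜 d))).2
            (fun w hw => by obtain ⟨c, hc, rfl⟩ := hw; exact mem_G 𝒜 d hc) hx
        rw [show (⟨r • x, hs⟩ : G 𝒜 d) = r • ⟨x, hxG⟩ from rfl, map_smul, ih, smul_zero]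
    have := hall t htk (inf_le_left (a := G 𝒜 d) htD)
    rw [← hQP, Ideal.mem_comap]
    exact Ideal.Quotient.eq_zero_iff_mem.1 this
  obtain ⟨m, hm⟩ := hrad
  exact ⟨m + 1, Nat.succ_pos m, by rw [pow_succ]; exact Ideal.mul_mem_right _ _ hm⟩

end Groth.Agent.SymTenRadical
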